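import Cfsg.Agent.Lib.Structure.CocyclicCentralizers

/-!
The subgroup generated by the `C_{[C_Y(B₀),A]}(B)`, `B/B₀` cyclic, and its behaviour under homomorphisms.
-/

set_option autoImplicit false

namespace CfsgLib.CommGen

open Subgroup CfsgLib.Coprime CfsgLib.Structure
open scoped commutatorElement

universe u

variable {X : Type u} [Group X]

/-- The join of the subgroups `C_Y(B) ∩ [C_Y(B₀),A]` over `B₀ ≤ B` with `B/B₀` cyclic. -/
def gen (A B Y : Subgroup X) : Subgroup X :=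
  ⨆ B₀ ∈ {B₀ : Subgroup X | IsCocyclicIn B B₀},
    Y ⊓ centralizer (B : Set X) ⊓ ⁅Y ⊓ centralizer (B₀ : Set X), A⁆

theorem gen_le (A B Y : Subgroup X) : gen A B Y ≤ Y ⊓ centralizer (B : Set X) :=
  iSup₂_le fun _ _ => inf_le_left

theorem le_gen {A B Y B₀ : Subgroup X} (h : IsCocyclicIn B B₀) :
    Y ⊓ centralizer (B : Set X) ⊓ ⁅Y ⊓ centralizer (B₀ : Set X), A⁆ ≤ gen A B Y :=
  le_iSup₂ (f := fun (B₁ : Subgroup X) (_ : B₁ ∈ {B₁ : Subgroup X | IsCocyclicIn B B₁}) =>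
    Y ⊓ centralizer (B : Set X) ⊓ ⁅Y ⊓ centralizer (B₁ : Set X), A⁆) B₀ h

theorem gen_mono {A B Y Y' : Subgroup X} (h : Y ≤ Y') : gen A B Y ≤ gen A B Y' :=
  iSup₂_mono fun _ _ => inf_le_inf (inf_le_inf_right _ h)
    (commutator_mono (inf_le_inf_right _ h) le_rfl)

theorem isCocyclicIn_self (B : Subgroup X) : IsCocyclicIn B B :=
  ⟨le_rfl, 1, B.one_mem, by simp⟩

theorem comm_of_le {A B : Subgroup X} [IsMulCommutative A] (h : B ≤ A) : IsMulCommutative B :=
  ⟨⟨fun a b => Subtype.ext (congrArg Subtype.val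
    (IsMulCommutative.is_comm.comm (⟨a, h a.2⟩ : A) ⟨b, h b.2⟩) :)⟩⟩

theorem solvable_of_le {A B : Subgroup X} [IsMulCommutative A] (h : B ≤ A) : Group.IsSolvable B :=
  haveI := comm_of_le h
  isSolvable_of_isMulCommutative B

/-- `A` normalizes the commutator of two subgroups it normalizes. -/
theorem le_normalizer_commutator {A H K : Subgroup X} (hH : A ≤ normalizer (H : Set X))
    (hK : A ≤ normalizer (K : Set X)) : A ≤ normalizer ((⁅H, K⁆ : Subgroup X) : Set X) := by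
  intro a ha
  rw [mem_normalizer_iff_map_conj_eq, map_commutator,
    mem_normalizer_iff_map_conj_eq.1 (hH ha), mem_normalizer_iff_map_conj_eq.1 (hK ha)]

theorem le_normalizer_inf {A H K : Subgroup X} (hH : A ≤ normalizer (H : Set X))
    (hK : A ≤ normalizer (K : Set X)) : A ≤ normalizer ((H ⊓ K : Subgroup X) : Set X) :=
  le_normalizer_iff.2 fun _ ha _ hx =>
    ⟨mem_normalizer_conj (hH ha) hx.1, mem_normalizer_conj (hK ha) hx.2⟩

theorem le_normalizer_inf_centralizer {A B₀ Y : Subgroup X} [IsMulCommutative A] (hB : B₀ ≤ A)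
    (hY : A ≤ normalizer (Y : Set X)) :
    A ≤ normalizer ((Y ⊓ centralizer (B₀ : Set X) : Subgroup X) : Set X) :=
  le_normalizer_inf hY (le_normalizer_centralizer_of_normalizes (le_normalizer_of_abelian hB))

theorem map_centralizer_le {X' : Type u} [Group X'] (f : X →* X') (B : Subgroup X) :
    (centralizer (B : Set X)).map f ≤ centralizer ((B.map f : Subgroup X') : Set X') := by
  rintro _ ⟨x, hx, rfl⟩
  rw [mem_centralizer_iff]
  rintro _ ⟨b, hb, rfl⟩
  rw [← map_mul, ← map_mul, mem_centralizer_iff.1 hx b hb]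

theorem gen_map_le {X' : Type u} [Group X'] (f : X →* X') (A B Y : Subgroup X) :
    (gen A B Y).map f ≤ gen (A.map f) (B.map f) (Y.map f) := by
  simp only [gen, Subgroup.map_iSup]
  refine iSup₂_le fun B₀ hB₀ => ?_
  have hco : IsCocyclicIn (B.map f) (B₀.map f) := by
    obtain ⟨hle, b, hb, he⟩ := hB₀
    refine ⟨map_mono hle, f b, mem_map_of_mem f hb, ?_⟩
    rw [← MonoidHom.map_zpowers, ← Subgroup.map_sup, he]
  refine le_trans ?_ (le_gen hco)
  refine (map_inf_le _ _ f).trans (inf_le_inf ((map_inf_le _ _ f).trans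
    (inf_le_inf le_rfl (map_centralizer_le f B))) ?_)
  rw [map_commutator]
  exact commutator_mono ((map_inf_le _ _ f).trans (inf_le_inf le_rfl (map_centralizer_le f B₀)))
    le_rfl

/-- In a coprime situation `gen` maps onto `gen`. -/
theorem gen_le_map [Finite X] {X' : Type u} [Group X'] (f : X →* X') (A B Y : Subgroup X)
    [IsMulCommutative A] (hBA : B ≤ A) (hAY : A ≤ normalizer (Y : Set X))
    (hcop : (Nat.card A).Coprime (Nat.card Y)) :
    gen (A.map f) (B.map f) (Y.map f) ≤ (gen A B Y).map f := by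
  refine iSup₂_le fun B₁ hB₁ => ?_
  obtain ⟨hle, b', hb', he⟩ := hB₁
  obtain ⟨b, hb, rfl⟩ := hb'
  set B₀ := B ⊓ B₁.comap f with hB₀
  have hmap : B₀.map f = B₁ := by
    refine le_antisymm ?_ fun z hz => ?_
    · rintro _ ⟨x, hx, rfl⟩
      exact hx.2
    · obtain ⟨x, hx, rfl⟩ := hle hz
      exact ⟨x, ⟨hx, hz⟩, rfl⟩
  have hco : IsCocyclicIn B B₀ := by
    refine ⟨inf_le_left, b, hb, le_antisymm (sup_le inf_le_left (zpowers_le.2 hb)) fun x hx => ?_⟩
    have hfx : f x ∈ zpowers (f b) ⊔ B₁ := by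
      rw [sup_comm, he]; exact mem_map_of_mem f hx
    have hn : zpowers (f b) ≤ normalizer (B₁ : Set X') :=
      (zpowers_le.2 (mem_map_of_mem f (hBA hb))).trans
        (le_normalizer_of_abelian (hle.trans (map_mono hBA)))
    obtain ⟨z, hz, u, hu, hzu⟩ := exists_mul_of_mem_sup hn hfx
    obtain ⟨k, rfl⟩ := mem_zpowers_iff.1 hz
    have hu' : (b ^ k)⁻¹ * x ∈ B₀ := by
      refine ⟨B.mul_mem (B.inv_mem (B.zpow_mem hb k)) hx, ?_⟩
      show f _ ∈ B₁
      rw [map_mul, map_inv, map_zpow, hzu, inv_mul_cancel_left]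
      exact hu
    rw [show x = b ^ k * ((b ^ k)⁻¹ * x) by group]
    exact mul_mem (mem_sup_right (zpow_mem (mem_zpowers b) k)) (mem_sup_left hu')
  have hB₀A : B₀ ≤ A := hco.1.trans hBA
  have hsol : Group.IsSolvable B₀ ∨ Group.IsSolvable Y := Or.inl (solvable_of_le hB₀A)
  have hC := map_inf_centralizer f B₀ Y (hB₀A.trans hAY)
    (hcop.coprime_dvd_left (card_dvd_of_le hB₀A)) hsol
  rw [hmap] at hC
  set Y₁ := ⁅Y ⊓ centralizer (B₀ : Set X), A⁆ with hY₁
  have hY₁Y : Y₁ ≤ Y :=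
    (commutator_le_of_normalizes (le_normalizer_inf_centralizer hB₀A hAY)).trans inf_le_left
  have hBY₁ : B ≤ normalizer (Y₁ : Set X) :=
    hBA.trans (le_normalizer_commutator_right _ A)
  have hsol' : Group.IsSolvable B ∨ Group.IsSolvable Y₁ := Or.inl (solvable_of_le hBA)
  have hC₁ := map_inf_centralizer f B Y₁ hBY₁
    ((hcop.coprime_dvd_left (card_dvd_of_le hBA)).coprime_dvd_right (card_dvd_of_le hY₁Y)) hsol'
  rw [← hC, ← map_commutator, ← hY₁]
  rintro z ⟨⟨-, hzB⟩, hz⟩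
  obtain ⟨x, hx, rfl⟩ := hC₁.ge ⟨hz, hzB⟩
  exact mem_map_of_mem f (le_gen hco ⟨⟨hY₁Y hx.1, hx.2⟩, hx.1⟩)

end CfsgLib.CommGen
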