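import Cfsg.Agent.Lib.CommGen.Basic

/-!
If `A` is abelian, acts coprimely on a solvable group `Y = [Y,A]` and `B ≤ A`, then `C_Y(B)` is generated
by the subgroups `C_Y(B) ∩ [C_Y(B₀),A]` with `B/B₀` cyclic.
-/

set_option autoImplicit false

namespace CfsgLib.CommGen

open Subgroup CfsgLib.Coprime CfsgLib.Structure
open scoped commutatorElement

universe u

variable {X : Type u} [Group X] [Finite X]

/-- `Y` is the join of the `[C_Y(B₀),A]`. -/
theorem le_iSup_commutator {A B Y : Subgroup X} [IsMulCommutative A] (hBA : B ≤ A)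
    (hAY : A ≤ normalizer (Y : Set X)) (hcop : (Nat.card A).Coprime (Nat.card Y))
    (hYA : ⁅Y, A⁆ = Y) :
    Y ≤ ⨆ B₀ ∈ {B₀ : Subgroup X | IsCocyclicIn B B₀}, ⁅Y ⊓ centralizer (B₀ : Set X), A⁆ := by
  set L := ⨆ B₀ ∈ {B₀ : Subgroup X | IsCocyclicIn B B₀}, ⁅Y ⊓ centralizer (B₀ : Set X), A⁆ with hL
  haveI := comm_of_le hBA
  have hLle : ∀ B₀, IsCocyclicIn B B₀ → ⁅Y ⊓ centralizer (B₀ : Set X), A⁆ ≤ L := fun B₀ h =>
    le_iSup₂ (f := fun (B₁ : Subgroup X) (_ : B₁ ∈ {B₁ : Subgroup X | IsCocyclicIn B B₁}) =>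
      ⁅Y ⊓ centralizer (B₁ : Set X), A⁆) B₀ h
  have hnorm : ∀ g : X, (∀ B₀, IsCocyclicIn B B₀ →
      g ∈ normalizer ((⁅Y ⊓ centralizer (B₀ : Set X), A⁆ : Subgroup X) : Set X)) →
      g ∈ normalizer (L : Set X) := by
    intro g hg
    refine mem_normalizer_of_forall_conj fun x hx => ?_
    have hm : L.map (MulAut.conj g).toMonoidHom ≤ L := by
      rw [hL, Subgroup.map_iSup]
      refine iSup_le fun B₀ => ?_
      rw [Subgroup.map_iSup]
      refine iSup_le fun hB₀ => ?_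
      exact (mem_normalizer_iff_map_conj_eq.1 (hg B₀ hB₀)).le.trans (hLle B₀ hB₀)
    exact hm (mem_map_of_mem _ hx)
  set C := Y ⊓ centralizer (A : Set X) with hC
  have hCL : C ≤ normalizer (L : Set X) := fun c hc => hnorm c fun B₀ h =>
    le_normalizer_commutator_left _ A ⟨hc.1, centralizer_le (SetLike.coe_subset_coe.2 (h.1.trans hBA)) hc.2⟩
  have hAL : A ≤ normalizer (L : Set X) := fun a ha => hnorm a fun B₀ _ =>
    le_normalizer_commutator_right _ A ha
  have hYLC : Y ≤ C ⊔ L := by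
    refine (le_cocyclicJoin B Y (hBA.trans hAY) (hcop.coprime_dvd_left (card_dvd_of_le hBA))).trans
      (iSup₂_le fun B₀ hB₀ => ?_)
    have hB₀A : B₀ ≤ A := hB₀.1.trans hBA
    rw [← commutator_sup_centralizer A (Y ⊓ centralizer (B₀ : Set X))
      (le_normalizer_inf_centralizer hB₀A hAY)
      (hcop.coprime_dvd_right (card_dvd_of_le inf_le_left)) (Or.inl (solvable_of_le le_rfl))]
    exact sup_le ((hLle B₀ hB₀).trans le_sup_right)
      ((inf_le_inf_right _ inf_le_left).trans le_sup_left)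
  refine hYA.symm.le.trans (commutator_le.2 fun y hy a ha => ?_)
  obtain ⟨c, hc, l, hl, rfl⟩ := exists_mul_of_mem_sup hCL (hYLC hy)
  have hla : ⁅l, a⁆ ∈ L := by
    rw [commutatorElement_def, show l * a * l⁻¹ * a⁻¹ = l * (a * l⁻¹ * a⁻¹) by group]
    exact L.mul_mem hl (mem_normalizer_conj (hAL ha) (L.inv_mem hl))
  have hca : ⁅c, a⁆ = 1 :=
    commutatorElement_eq_one_iff_mul_comm.2 (mem_centralizer_iff.1 hc.2 a ha).symm
  rw [commutatorElement_mul_left_eq_conj_mul, hca, mul_one]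
  exact mem_normalizer_conj (hCL hc) hla

/-- The key step: the fixed points in a commutator subgroup `[M,Y]` central in `M`. -/
theorem fixed_le_gen {A B Y M : Subgroup X} [IsMulCommutative A] (hBA : B ≤ A)
    (hAY : A ≤ normalizer (Y : Set X)) (hcop : (Nat.card A).Coprime (Nat.card Y))
    (hYA : ⁅Y, A⁆ = Y) (hMY : M ≤ Y) (hnM : Y ≤ normalizer (M : Set X))
    (hAM : A ≤ normalizer (M : Set X))
    (hUc : ∀ u ∈ ⁅M, Y⁆, ∀ m ∈ M, u * m = m * u) :
    ⁅M, Y⁆ ⊓ centralizer (B : Set X) ≤ gen A B Y := by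
  set U := ⁅M, Y⁆ with hU
  have hUM : U ≤ M := commutator_le_of_normalizes hnM
  have hUY : U ≤ Y := hUM.trans hMY
  haveI hUab : IsMulCommutative U :=
    ⟨⟨fun u v => Subtype.ext (hUc u u.2 v (hUM v.2))⟩⟩
  have hAU : A ≤ normalizer (U : Set X) := le_normalizer_commutator hAM hAY
  haveI hBc : IsMulCommutative B := comm_of_le hBA
  set S := (gen A B Y ⊓ U) ⊔ ⁅U, B⁆ with hS
  -- commutators are multiplicative in the first variable
  have hom : ∀ y ∈ Y, ∀ m ∈ M, ∀ m' ∈ M, ⁅m * m', y⁆ = ⁅m, y⁆ * ⁅m', y⁆ := by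
    intro y hy m hm m' hm'
    have hu := commutator_mem_commutator hm' hy
    rw [commutatorElement_mul_left_eq_conj_mul, ← hUc _ hu m hm, mul_inv_cancel_right]
    exact hUc _ hu _ (hUM (commutator_mem_commutator hm hy))
  have gens : ∀ B₀, IsCocyclicIn B B₀ → ∀ y ∈ ⁅Y ⊓ centralizer (B₀ : Set X), A⁆,
      ∀ m ∈ M, ⁅m, y⁆ ∈ S := by
    intro B₀ hB₀
    have hB₀A : B₀ ≤ A := hB₀.1.trans hBA
    set Y₀ := ⁅Y ⊓ centralizer (B₀ : Set X), A⁆ with hY₀
    have hY₀C : Y₀ ≤ Y ⊓ centralizer (B₀ : Set X) :=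
      commutator_le_of_normalizes (le_normalizer_inf_centralizer hB₀A hAY)
    intro y hy
    have hyY : y ∈ Y := (hY₀C hy).1
    have hyc : ∀ b ∈ B₀, b * y * b⁻¹ = y := fun b hb => conj_eq_of_mem_centralizer (hY₀C hy).2 hb
    have hone : ⁅(1 : X), y⁆ = 1 := commutatorElement_one_left y
    have hinv : ∀ m ∈ M, ⁅m⁻¹, y⁆ = ⁅m, y⁆⁻¹ := fun m hm => eq_inv_of_mul_eq_one_left (by
      rw [← hom y hyY m⁻¹ (M.inv_mem hm) m hm, inv_mul_cancel, hone])
    let I : Subgroup X :=
      { carrier := {u | ∃ m ∈ M, u = ⁅m, y⁆}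
        one_mem' := ⟨1, M.one_mem, hone.symm⟩
        mul_mem' := by
          rintro _ _ ⟨m, hm, rfl⟩ ⟨m', hm', rfl⟩
          exact ⟨m * m', M.mul_mem hm hm', (hom y hyY m hm m' hm').symm⟩
        inv_mem' := by
          rintro _ ⟨m, hm, rfl⟩
          exact ⟨m⁻¹, M.inv_mem hm, (hinv m hm).symm⟩ }
    have hIU : I ≤ U := by
      rintro _ ⟨m, hm, rfl⟩
      exact commutator_mem_commutator hm hyY
    have hBI : B₀ ≤ normalizer (I : Set X) := le_normalizer_iff.2 fun b hb u hu => by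
      obtain ⟨m, hm, rfl⟩ := hu
      exact ⟨b * m * b⁻¹, mem_normalizer_conj (hAM (hB₀A hb)) hm,
        by rw [conjugate_commutatorElement, hyc b hb]⟩
    have hIY : (Nat.card B₀).Coprime (Nat.card I) :=
      (hcop.coprime_dvd_left (card_dvd_of_le hB₀A)).coprime_dvd_right
        (card_dvd_of_le (hIU.trans hUY))
    suffices hIS : I ≤ S from fun m hm => hIS ⟨m, hm, rfl⟩
    rw [← commutator_sup_centralizer B₀ I hBI hIY (Or.inl (solvable_of_le hB₀A))]
    refine sup_le ((commutator_mono hIU hB₀.1).trans le_sup_right) ?_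
    rintro _ ⟨⟨m, hm, rfl⟩, hc⟩
    have hNM : M ⊓ centralizer ({y} : Set X) ≤ M := inf_le_left
    have hBN : B₀ ≤ normalizer ((M ⊓ centralizer ({y} : Set X) : Subgroup X) : Set X) :=
      le_normalizer_iff.2 fun b hb x hx => by
        refine ⟨mem_normalizer_conj (hAM (hB₀A hb)) hx.1, mem_centralizer_singleton_iff.2 ?_⟩
        have h2 := mem_centralizer_singleton_iff.1 hx.2
        calc b * x * b⁻¹ * y = b * x * b⁻¹ * (b * y * b⁻¹) := by rw [hyc b hb]
          _ = b * (x * y) * b⁻¹ := by group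
          _ = b * (y * x) * b⁻¹ := by rw [h2]
          _ = b * y * b⁻¹ * (b * x * b⁻¹) := by group
          _ = y * (b * x * b⁻¹) := by rw [hyc b hb]
    obtain ⟨m', hm', hN⟩ := exists_centralizing_rep B₀ M (hB₀A.trans hAM)
      ((hcop.coprime_dvd_left (card_dvd_of_le hB₀A)).coprime_dvd_right (card_dvd_of_le hMY))
      (Or.inl (solvable_of_le hB₀A)) _ hNM hBN hm fun b hb => by
        have hbm := mem_normalizer_conj (hAM (hB₀A hb)) hm
        refine ⟨M.mul_mem (M.inv_mem hm) hbm, mem_centralizer_singleton_iff.2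
          (commutatorElement_eq_one_iff_mul_comm.1 ?_)⟩
        have e : ⁅b * m * b⁻¹, y⁆ = ⁅m, y⁆ := by
          conv_lhs => rw [← hyc b hb, ← conjugate_commutatorElement]
          exact conj_eq_of_mem_centralizer hc hb
        rw [hom y hyY m⁻¹ (M.inv_mem hm) _ hbm, e, hinv m hm, inv_mul_cancel]
    have heq : ⁅m', y⁆ = ⁅m, y⁆ := by
      have h0 : ⁅m⁻¹ * m', y⁆ = 1 :=
        commutatorElement_eq_one_iff_mul_comm.2 (mem_centralizer_singleton_iff.1 hN.2)
      rw [hom y hyY m⁻¹ (M.inv_mem hm) m' hm'.1, hinv m hm, inv_mul_eq_one] at h0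
      exact h0.symm
    have hmY₀ : ⁅m', y⁆ ∈ Y₀ := by
      rw [commutatorElement_def]
      exact Y₀.mul_mem (mem_normalizer_conj
        (le_normalizer_commutator_left _ A ⟨hMY hm'.1, hm'.2⟩) hy) (Y₀.inv_mem hy)
    rw [← heq]
    have hZ : B ≤ normalizer ((Y₀ ⊓ U : Subgroup X) : Set X) :=
      le_normalizer_inf (hBA.trans (le_normalizer_commutator_right _ A)) (hBA.trans hAU)
    have hsup := commutator_sup_centralizer B (Y₀ ⊓ U) hZ
      ((hcop.coprime_dvd_left (card_dvd_of_le hBA)).coprime_dvd_right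
        (card_dvd_of_le (inf_le_right.trans hUY))) (Or.inl (solvable_of_le hBA))
    have hle : Y₀ ⊓ U ≤ S := by
      rw [← hsup]
      refine sup_le ((commutator_mono inf_le_right le_rfl).trans le_sup_right) ?_
      rintro z ⟨⟨hz0, hzU⟩, hzB⟩
      exact mem_sup_left ⟨le_gen hB₀ ⟨⟨hUY hzU, hzB⟩, hz0⟩, hzU⟩
    exact hle ⟨hmY₀, commutator_mem_commutator hm'.1 hyY⟩
  have hall : ∀ y ∈ Y, ∀ m ∈ M, ⁅m, y⁆ ∈ S := by
    intro y hy
    have hy' := le_iSup_commutator hBA hAY hcop hYA hy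
    rw [iSup_subtype'] at hy'
    refine (Subgroup.iSup_induction _ (C := fun z => z ∈ Y ∧ ∀ m ∈ M, ⁅m, z⁆ ∈ S) hy' ?_ ?_ ?_).2
    · rintro ⟨B₀, hB₀⟩ z hz
      refine ⟨?_, gens B₀ hB₀ z hz⟩
      exact ((commutator_le_of_normalizes
        (le_normalizer_inf_centralizer (hB₀.1.trans hBA) hAY)).trans inf_le_left) hz
    · exact ⟨Y.one_mem, fun m _ => by rw [commutatorElement_one_right]; exact S.one_mem⟩
    · rintro z w ⟨hz, hz'⟩ ⟨hw, hw'⟩
      refine ⟨Y.mul_mem hz hw, fun m hm => ?_⟩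
      have hu : ⁅m, w⁆ ∈ M := hUM (commutator_mem_commutator hm hw)
      have e : ⁅m, z * w⁆ = ⁅m, z⁆ * (⁅⁅m, w⁆, z⁆⁻¹ * ⁅m, w⁆) := by
        simp only [commutatorElement_def]; group
      rw [e]
      exact S.mul_mem (hz' m hm) (S.mul_mem (S.inv_mem (hz' _ hu)) (hw' m hm))
  have hUS : U ≤ S := commutator_le.2 fun m hm y hy => hall y hy m hm
  rintro u ⟨hu, huB⟩
  have hn : gen A B Y ⊓ U ≤ normalizer ((⁅U, B⁆ : Subgroup X) : Set X) :=
    inf_le_right.trans (le_normalizer_commutator_left U B)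
  obtain ⟨r, hr, d, hd, rfl⟩ := exists_mul_of_mem_sup hn (hUS hu)
  have hbot := commutator_inf_centralizer_eq_bot B U (hBA.trans hAU)
    ((hcop.coprime_dvd_left (card_dvd_of_le hBA)).coprime_dvd_right (card_dvd_of_le hUY))
  have hdB : d ∈ centralizer (B : Set X) := by
    have := (centralizer (B : Set X)).mul_mem
      ((centralizer (B : Set X)).inv_mem (gen_le A B Y hr.1).2) huB
    rwa [inv_mul_cancel_left] at this
  have hd1 : d = 1 := by
    rw [← mem_bot, ← hbot]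
    exact ⟨hd, hdB⟩
  rw [hd1, mul_one]
  exact hr.1

/-- An element of a Sylow subgroup which is central and in the derived group lies in the derived
group of the Sylow subgroup. -/
theorem mem_derived_sylow {H : Type*} [Group H] [Finite H] {q : ℕ} [Fact q.Prime] (P : Sylow q H)
    {v : H} (hv : v ∈ (P : Subgroup H)) (hc : ∀ g : H, g * v = v * g) (hd : v ∈ commutator H) :
    v ∈ ⁅(P : Subgroup H), (P : Subgroup H)⁆ := by
  let φ : (P : Subgroup H) →* Abelianization (P : Subgroup H) := Abelianization.of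
  have key : ∀ (k : ℕ) (g₀ : H), g₀⁻¹ * v ^ k * g₀ ∈ (P : Subgroup H) →
      g₀⁻¹ * v ^ k * g₀ = v ^ k := fun k g₀ _ => by
    rw [mul_assoc, ← (Commute.pow_right (hc g₀ : Commute g₀ v) k).eq, inv_mul_cancel_left]
  have h0 : MonoidHom.transfer φ v = 1 :=
    MonoidHom.mem_ker.1 (Abelianization.commutator_subset_ker _ hd)
  rw [MonoidHom.transfer_eq_pow φ v key] at h0
  have h1 : (⟨v ^ (P : Subgroup H).index, MonoidHom.transfer_eq_pow_aux v key⟩ : (P : Subgroup H)) ∈
      commutator (P : Subgroup H) := (QuotientGroup.eq_one_iff _).1 h0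
  have h2 : v ^ (P : Subgroup H).index ∈ ⁅(P : Subgroup H), (P : Subgroup H)⁆ := by
    rw [← Subgroup.map_subtype_commutator]
    exact ⟨_, h1, rfl⟩
  have hco : ((P : Subgroup H).index).Coprime (orderOf v) := by
    obtain ⟨k, hk⟩ := IsPGroup.iff_orderOf.1 P.2 ⟨v, hv⟩
    rw [← orderOf_coe ⟨v, hv⟩] at hk
    rw [hk]
    exact Nat.Coprime.pow_right k
      ((Nat.Prime.coprime_iff_not_dvd (Fact.out (p := q.Prime))).2 P.not_dvd_index).symm
  obtain ⟨k, hk⟩ := exists_pow_eq_self_of_coprime hco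
  rw [← hk]
  exact pow_mem h2 k

omit [Finite X] in
theorem sup_centralizer_commutator {Q₁ C : Subgroup X} (hC : C ≤ normalizer (Q₁ : Set X)) :
    ⁅C ⊔ Q₁, C ⊔ Q₁⁆ ≤ ⁅C, C⁆ ⊔ Q₁ := by
  refine commutator_le.2 fun x hx y hy => ?_
  obtain ⟨c, hc, u, hu, rfl⟩ := exists_mul_of_mem_sup hC hx
  obtain ⟨d, hd, v, hv, rfl⟩ := exists_mul_of_mem_sup hC hy
  have hw : d⁻¹ * u * d * (v * u⁻¹) * (c⁻¹ * v⁻¹ * c) ∈ Q₁ :=
    mul_mem (mul_mem (mem_normalizer_conj' (hC hd) hu) (mul_mem hv (inv_mem hu)))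
      (mem_normalizer_conj' (hC hc) (inv_mem hv))
  have e : ⁅c * u, d * v⁆ = ⁅c, d⁆ *
      (d * c * (d⁻¹ * u * d * (v * u⁻¹) * (c⁻¹ * v⁻¹ * c)) * (d * c)⁻¹) := by
    simp only [commutatorElement_def]; group
  rw [e]
  exact mul_mem (mem_sup_left (commutator_mem_commutator hc hd))
    (mem_sup_right (mem_normalizer_conj (hC (C.mul_mem hd hc)) hw))

/-- The theorem, as a strong induction. -/
theorem le_gen_aux : ∀ (n : ℕ) (X : Type u) [Group X] [Finite X] (A B Y : Subgroup X)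
    [IsMulCommutative A], B ≤ A → A ≤ normalizer (Y : Set X) →
    (Nat.card A).Coprime (Nat.card Y) → Group.IsSolvable Y → ⁅Y, A⁆ = Y → Nat.card Y = n →
    Y ⊓ centralizer (B : Set X) ≤ gen A B Y := by
  intro n
  induction n using Nat.strong_induction_on with
  | _ n ih =>
  intro X _ _ A B Y hA hBA hAY hcop hsol hYA hn
  have hBc : IsMulCommutative B := comm_of_le hBA
  set W := Y ⊓ centralizer (B : Set X) with hW
  have hAW : A ≤ normalizer (W : Set X) := le_normalizer_inf_centralizer hBA hAY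
  have hWA : ⁅W, A⁆ ≤ gen A B Y :=
    le_trans (le_inf (commutator_le_of_normalizes hAW) le_rfl) (le_gen (isCocyclicIn_self B))
  have hsolA : ∀ K : Subgroup X, Group.IsSolvable A ∨ Group.IsSolvable K := fun _ =>
    Or.inl (solvable_of_le le_rfl)
  -- reduction modulo an invariant normal subgroup
  have quotSup : ∀ U : Subgroup X, U ≤ Y → U ≠ ⊥ → Y ≤ normalizer (U : Set X) →
      A ≤ normalizer (U : Set X) → ∀ w ∈ W, ∃ r ∈ gen A B Y,
        r⁻¹ * w ∈ U ⊓ centralizer (B : Set X) := by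
    intro U hUY hne hYU hAU
    set N := normalizer (U : Set X) with hN
    let π := QuotientGroup.mk' (U.subgroupOf N)
    have hYN : Y.subgroupOf N ≤ normalizer ((Y.subgroupOf N : Subgroup N) : Set N) := le_normalizer
    haveI hA₀ : IsMulCommutative (A.subgroupOf N) :=
      ⟨⟨fun a b => Subtype.ext (Subtype.ext (congrArg Subtype.val
        (IsMulCommutative.is_comm.comm (⟨_, a.2⟩ : A) ⟨_, b.2⟩) :))⟩⟩
    haveI hA₁ : IsMulCommutative ((A.subgroupOf N).map π) := by
      refine ⟨⟨?_⟩⟩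
      rintro ⟨_, a, ha, rfl⟩ ⟨_, b, hb, rfl⟩
      refine Subtype.ext ?_
      show π a * π b = π b * π a
      rw [← map_mul, ← map_mul]
      exact congrArg π (congrArg Subtype.val (IsMulCommutative.is_comm.comm
        (⟨a, ha⟩ : A.subgroupOf N) ⟨b, hb⟩) :)
    have hAY₀ : A.subgroupOf N ≤ normalizer ((Y.subgroupOf N : Subgroup N) : Set N) :=
      le_normalizer_iff.2 fun a ha y hy =>
        mem_normalizer_conj (a := (a : X)) (H := Y) (hAY ha) hy
    have hcard₀ : Nat.card (Y.subgroupOf N) = Nat.card Y := card_subgroupOf hYU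
    have hcomm₀ : ⁅Y.subgroupOf N, A.subgroupOf N⁆ = Y.subgroupOf N := by
      apply Subgroup.map_injective N.subtype_injective
      rw [map_commutator, map_subgroupOf_eq_of_le hYU, map_subgroupOf_eq_of_le hAU, hYA]
    have hlt : Nat.card ((Y.subgroupOf N).map π) < n := by
      have h1 := card_map_mul_inf_ker π (Y.subgroupOf N)
      rw [hcard₀, hn, QuotientGroup.ker_mk', inf_of_le_left (show U.subgroupOf N ≤ Y.subgroupOf N from fun x hx => hUY hx),
        card_subgroupOf (le_normalizer : U ≤ N)] at h1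
      have h2 : 1 < Nat.card U := (Subgroup.one_lt_card_iff_ne_bot U).2 hne
      have h3 : 0 < Nat.card ((Y.subgroupOf N).map π) := Nat.card_pos
      rw [← h1]
      exact lt_mul_of_one_lt_right h3 h2
    have hsol₁ : Group.IsSolvable ((Y.subgroupOf N).map π) := by
      haveI := hsol
      haveI : Group.IsSolvable (Y.subgroupOf N) :=
        Group.isSolvable_of_surjective (f := (subgroupOfEquivOfLe hYU).symm.toMonoidHom)
          (subgroupOfEquivOfLe hYU).symm.surjective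
      exact Group.isSolvable_of_surjective (π.subgroupMap_surjective (Y.subgroupOf N))
    have hB₀ : B.subgroupOf N ≤ A.subgroupOf N := fun x hx => hBA hx
    have hcopN : (Nat.card (A.subgroupOf N)).Coprime (Nat.card (Y.subgroupOf N)) := by
      rw [hcard₀, card_subgroupOf hAU]; exact hcop
    have hQ := ih _ hlt (N ⧸ U.subgroupOf N) ((A.subgroupOf N).map π) ((B.subgroupOf N).map π)
      ((Y.subgroupOf N).map π) (map_mono hB₀) ((map_mono hAY₀).trans (le_normalizer_map π))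
      ((hcopN.coprime_dvd_left (card_map_dvd _ π)).coprime_dvd_right (card_map_dvd _ π)) hsol₁
      (by rw [← map_commutator, hcomm₀]) rfl
    intro w hw
    have hwN : w ∈ N := hYU hw.1
    have hmem : π ⟨w, hwN⟩ ∈ (gen (A.subgroupOf N) (B.subgroupOf N) (Y.subgroupOf N)).map π := by
      refine gen_le_map π _ _ _ hB₀ hAY₀ hcopN (hQ ⟨mem_map_of_mem π hw.1, ?_⟩)
      exact map_centralizer_le π (B.subgroupOf N) (mem_map_of_mem π (mem_centralizer_iff.2
        fun b hb => Subtype.ext (mem_centralizer_iff.1 hw.2 (b : X) hb)))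
    obtain ⟨r, hr, hrw⟩ := hmem
    have hrX : (r : X) ∈ gen A B Y := by
      have := gen_map_le N.subtype (A.subgroupOf N) (B.subgroupOf N) (Y.subgroupOf N)
        (mem_map_of_mem _ hr)
      rwa [map_subgroupOf_eq_of_le hAU, map_subgroupOf_eq_of_le (hBA.trans hAU),
        map_subgroupOf_eq_of_le hYU] at this
    have hu : (r : X)⁻¹ * w ∈ U :=
      mem_subgroupOf.1 ((QuotientGroup.eq).1 (show (r : N ⧸ U.subgroupOf N) = (⟨w, hwN⟩ : N) from hrw))
    have huB : (r : X)⁻¹ * w ∈ centralizer (B : Set X) := mul_mem (inv_mem (gen_le A B Y hrX).2) hw.2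
    exact ⟨(r : X), hrX, hu, huB⟩
  have quot : ∀ U : Subgroup X, U ≤ Y → U ≠ ⊥ → Y ≤ normalizer (U : Set X) →
      A ≤ normalizer (U : Set X) → U ⊓ centralizer (B : Set X) ≤ gen A B Y → W ≤ gen A B Y := by
    intro U hUY hne hYU hAU hfix w hw
    obtain ⟨r, hr, hu⟩ := quotSup U hUY hne hYU hAU w hw
    rw [show w = r * (r⁻¹ * w) by group]
    exact mul_mem hr (hfix hu)
  by_cases hYab : ⁅Y, Y⁆ = ⊥
  · haveI : IsMulCommutative Y := ⟨⟨fun x y => Subtype.ext
      (commutatorElement_eq_one_iff_mul_comm.1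
        (mem_bot.1 (hYab ▸ commutator_mem_commutator x.2 y.2)))⟩⟩
    have hbot := commutator_inf_centralizer_eq_bot A Y hAY hcop
    rw [hYA] at hbot
    rw [← commutator_sup_centralizer A W hAW (hcop.coprime_dvd_right (card_dvd_of_le inf_le_left))
      (hsolA W)]
    refine sup_le hWA ((inf_le_inf_right _ inf_le_left).trans ?_)
    rw [hbot]
    exact bot_le
  -- a minimal invariant normal subgroup not central in `Y`
  obtain ⟨M, ⟨hMY, hYM, hAM, hMne⟩, hmin⟩ := WellFounded.has_min (r := (· < ·))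
    wellFounded_lt {M : Subgroup X | M ≤ Y ∧ Y ≤ normalizer (M : Set X) ∧
      A ≤ normalizer (M : Set X) ∧ ⁅M, Y⁆ ≠ ⊥} ⟨Y, le_rfl, le_normalizer, hAY, hYab⟩
  have hcentral : ∀ U : Subgroup X, U < M → Y ≤ normalizer (U : Set X) →
      A ≤ normalizer (U : Set X) → ∀ u ∈ U, ∀ y ∈ Y, u * y = y * u := by
    intro U hU h1 h2 u hu y hy
    have hb : ⁅U, Y⁆ = ⊥ := by
      by_contra h
      exact hmin U ⟨hU.le.trans hMY, h1, h2, h⟩ hU
    exact commutatorElement_eq_one_iff_mul_comm.1 (mem_bot.1 (hb ▸ commutator_mem_commutator hu hy))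
  have hUM : ⁅M, Y⁆ ≤ M := commutator_le_of_normalizes hYM
  have hYU : Y ≤ normalizer ((⁅M, Y⁆ : Subgroup X) : Set X) := le_normalizer_commutator_right M Y
  have hAU : A ≤ normalizer ((⁅M, Y⁆ : Subgroup X) : Set X) := le_normalizer_commutator hAM hAY
  by_cases hkey : ∀ u ∈ ⁅M, Y⁆, ∀ m ∈ M, u * m = m * u
  · exact quot _ (hUM.trans hMY) hMne hYU hAU (fixed_le_gen hBA hAY hcop hYA hMY hYM hAM hkey)
  have hUeq : ⁅M, Y⁆ = M := by
    by_contra h
    exact hkey fun u hu m hm =>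
      hcentral _ (lt_of_le_of_ne hUM h) hYU hAU u hu m (hMY hm)
  set V := ⁅M, M⁆ with hV
  have hVne : V ≠ ⊥ := fun h => hkey fun u hu m hm =>
    commutatorElement_eq_one_iff_mul_comm.1 (mem_bot.1 (h ▸ commutator_mem_commutator (hUM hu) hm))
  have hMne' : M ≠ ⊥ := fun h => hMne (by rw [hUeq, h])
  have hVlt : V < M := by
    haveI := hsol
    refine lt_of_le_of_ne (commutator_le_of_normalizes le_normalizer) fun he => ?_
    haveI : Group.IsSolvable M := Group.isSolvable_of_isSolvable_injective (inclusion_injective hMY)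
    haveI : Nontrivial M := (Subgroup.nontrivial_iff_ne_bot M).2 hMne'
    have h1 := Group.IsSolvable.commutator_lt_top_of_nontrivial M
    refine h1.ne (Subgroup.map_injective M.subtype_injective ?_)
    rw [Subgroup.map_subtype_commutator, ← MonoidHom.range_eq_map, Subgroup.range_subtype]
    exact he
  have hYV : Y ≤ normalizer (V : Set X) := le_normalizer_commutator hYM hYM
  have hAV : A ≤ normalizer (V : Set X) := le_normalizer_commutator hAM hAM
  have hVY : V ≤ Y := hVlt.le.trans hMY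
  have hVc : ∀ v ∈ V, ∀ y ∈ Y, v * y = y * v := hcentral V hVlt hYV hAV
  refine quot V hVY hVne hYV hAV ?_
  haveI hVab : IsMulCommutative V := ⟨⟨fun a b => Subtype.ext (hVc a a.2 b (hVY b.2))⟩⟩
  set Z := V ⊓ centralizer (B : Set X) with hZ
  have hAZ : A ≤ normalizer (Z : Set X) := le_normalizer_inf_centralizer hBA hAV
  have hcopZ : (Nat.card A).Coprime (Nat.card Z) :=
    hcop.coprime_dvd_right (card_dvd_of_le (inf_le_left.trans hVY))
  rw [← commutator_sup_centralizer A Z hAZ hcopZ (hsolA Z)]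
  refine sup_le ((commutator_mono (inf_le_inf_right _ hVY) le_rfl).trans hWA) ?_
  refine le_of_forall_sylow_le fun q hq Zq => ?_
  haveI : Fact q.Prime := ⟨hq⟩
  intro x hx
  obtain ⟨⟨hxV, -⟩, hxA⟩ : x ∈ Z ⊓ centralizer (A : Set X) := (map_subtype_le _) hx
  have hxq : IsPGroup q (zpowers x) :=
    (Zq.2.map _).to_le (zpowers_le.2 hx)
  have hxn : A ≤ normalizer ((zpowers x : Subgroup X) : Set X) := le_normalizer_iff.2 fun a ha z hz => by
    obtain ⟨k, rfl⟩ := mem_zpowers_iff.1 hz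
    rw [conj_eq_of_mem_centralizer ((centralizer (A : Set X)).zpow_mem hxA k) ha]
    exact zpow_mem (mem_zpowers x) k
  obtain ⟨P, hxP, hAP⟩ := exists_invariant_sylow_ge A Y hAY hcop (hsolA Y) q (zpowers x)
    (zpowers_le.2 (hVY hxV)) hxq hxn
  set Q := (P : Subgroup Y).map Y.subtype with hQ
  have hxQ : x ∈ Q := hxP (mem_zpowers x)
  have hQY : Q ≤ Y := map_subtype_le _
  have hQ' : x ∈ ⁅Q, Q⁆ := by
    obtain ⟨⟨x', hx'⟩, hxP', rfl⟩ := hxQ
    have h1 := mem_derived_sylow P hxP'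
      (fun g => Subtype.ext (hVc _ hxV (g : X) g.2).symm) ?_
    · rw [hQ, ← map_commutator]
      exact ⟨_, h1, rfl⟩
    · have h2 : (x' : X) ∈ ⁅Y, Y⁆ := commutator_mono hMY hMY hxV
      rw [← Subgroup.map_subtype_commutator] at h2
      obtain ⟨z, hz, he⟩ := h2
      rwa [show (⟨x', hx'⟩ : Y) = z from Subtype.ext he.symm]
  have hQlt : Q ≠ Y := by
    intro he
    have hYq : IsPGroup q Y := he ▸ P.2.map _
    exact (commutator_lt_of_isPGroup (hYq.to_le hMY) hYq hYM hMne').ne hUeq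
  set Q₁ := ⁅Q, A⁆ with hQ₁
  have hQ₁Q : Q₁ ≤ Q := commutator_le_of_normalizes hAP
  have hcopQ : (Nat.card A).Coprime (Nat.card Q) := hcop.coprime_dvd_right (card_dvd_of_le hQY)
  have hQ₁lt : Nat.card Q₁ < n := by
    have hlt : Q₁ < Y := lt_of_le_of_lt hQ₁Q (lt_of_le_of_ne hQY hQlt)
    rw [← hn]
    exact lt_of_le_of_ne (card_le_of_le hlt.le) fun e => hlt.ne (eq_of_le_of_card_ge hlt.le e.ge)
  haveI := hsol
  have hIH := ih _ hQ₁lt X A B Q₁ hBA (le_normalizer_commutator_right Q A)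
    (hcopQ.coprime_dvd_right (card_dvd_of_le hQ₁Q))
    (Group.isSolvable_of_isSolvable_injective (inclusion_injective (hQ₁Q.trans hQY)))
    (commutator_commutator_eq A Q hAP hcopQ (hsolA Q)) rfl
  set C := Q ⊓ centralizer (A : Set X) with hC
  have hCQ₁ : C ≤ normalizer (Q₁ : Set X) := inf_le_left.trans (le_normalizer_commutator_left Q A)
  have hx' : x ∈ ⁅C, C⁆ ⊔ Q₁ := by
    refine sup_centralizer_commutator hCQ₁ ?_
    rwa [sup_comm, commutator_sup_centralizer A Q hAP hcopQ (hsolA Q)]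
  have hCC : ⁅C, C⁆ ≤ C := commutator_le_of_normalizes le_normalizer
  obtain ⟨d, hd, u, hu, hdu⟩ := exists_mul_of_mem_sup (hCC.trans hCQ₁) hx'
  have hCW : C ≤ W := le_inf (inf_le_left.trans hQY)
    (inf_le_right.trans (centralizer_le (SetLike.coe_subset_coe.2 hBA)))
  -- commutators of fixed points lie in `gen`
  have hdgen : d ∈ gen A B Y := by
    have hWsup : ∀ w ∈ W, ∃ r ∈ gen A B Y, ∃ v ∈ V, w = r * v := by
      intro w hw
      obtain ⟨r, hr, hu⟩ := quotSup V hVY hVne hYV hAV w hw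
      exact ⟨r, hr, r⁻¹ * w, hu.1, by group⟩
    refine (commutator_le.2 fun s hs t ht => ?_ : ⁅W, W⁆ ≤ gen A B Y)
      (commutator_mono hCW hCW hd)
    obtain ⟨r, hr, v, hv, rfl⟩ := hWsup s hs
    obtain ⟨r', hr', v', hv', rfl⟩ := hWsup t ht
    have c1 := hVc v hv
    have c2 := hVc v' hv'
    have hrY : r ∈ Y := (gen_le A B Y hr).1
    have hrY' : r' ∈ Y := (gen_le A B Y hr').1
    have e : ⁅r * v, r' * v'⁆ = ⁅r, r'⁆ := by
      have k1 : ⁅v, r' * v'⁆ = 1 :=
        commutatorElement_eq_one_iff_mul_comm.2 (c1 _ (Y.mul_mem hrY' (hVY hv')))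
      have k2 : ⁅r, v'⁆ = 1 := commutatorElement_eq_one_iff_mul_comm.2 (c2 r hrY).symm
      rw [commutatorElement_mul_left_eq_conj_mul, k1, mul_one, mul_inv_cancel, one_mul,
        commutatorElement_mul_right_eq_mul_conj, k2, mul_one, mul_inv_cancel_right]
    rw [e, commutatorElement_def]
    exact mul_mem (mul_mem (mul_mem hr hr') (inv_mem hr)) (inv_mem hr')
  rw [hdu]
  refine mul_mem hdgen (gen_mono (hQ₁Q.trans hQY) (hIH ⟨hu, ?_⟩))
  have hxB : x ∈ centralizer (B : Set X) := centralizer_le (SetLike.coe_subset_coe.2 hBA) hxA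
  have hdB : d ∈ centralizer (B : Set X) := (hCW (hCC hd)).2
  have := mul_mem (inv_mem hdB) hxB
  rwa [hdu, inv_mul_cancel_left] at this

end CfsgLib.CommGen
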